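import Mathlib
import Groth.Prelude.Def_ClSub2
import Groth.Agent.SepDescent.Basic

/-!
# Closed subsets proper over a base
-/

set_option linter.style.haveILetI false

universe u

namespace Groth.Agent.ProperCover

open CategoryTheory CategoryTheory.Limits AlgebraicGeometry

/-- Properness descends along universally closed surjections to morphisms locally of finite type. -/
theorem isProper_of_comp_surjective {T R S : Scheme.{u}} (π : T ⟶ R) (g : R ⟶ S) [Surjective π]
    [UniversallyClosed π] [LocallyOfFiniteType g] [IsProper (π ≫ g)] : IsProper g := by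
  haveI := SepDescent.isSeparated_of_comp π g
  haveI := UniversallyClosed.of_comp_surjective π g
  exact { }

variable {X S : Scheme.{u}}

lemma range_pullback_fst {A B : Scheme.{u}} (a : A ⟶ X) (b : B ⟶ X) :
    Set.range (pullback.fst a b) = a ⁻¹' Set.range b :=
  Scheme.Pullback.range_fst a b

/-- Properness only depends on the underlying closed set, and passes to closed subsets. -/
theorem isProper_comp_of_range_subset (f : X ⟶ S) [LocallyOfFiniteType f] {T T' : Scheme.{u}}
    (i : T ⟶ X) (i' : T' ⟶ X) [IsClosedImmersion i] [IsClosedImmersion i']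
    (h : Set.range i ⊆ Set.range i') [IsProper (i' ≫ f)] : IsProper (i ≫ f) := by
  let π := pullback.fst i i'
  haveI : Surjective π := by
    refine ⟨fun t => ?_⟩
    have ht : t ∈ Set.range π := by
      rw [range_pullback_fst]
      exact h ⟨t, rfl⟩
    exact ht
  haveI : IsProper (π ≫ i ≫ f) := by
    rw [← Category.assoc, pullback.condition, Category.assoc]
    infer_instance
  exact isProper_of_comp_surjective π (i ≫ f)

theorem isProperOver_iff (f : X ⟶ S) [LocallyOfFiniteType f] {T : Scheme.{u}} (i : T ⟶ X)
    [IsClosedImmersion i] : ClSub.IsProperOver f (Set.range i) ↔ IsProper (i ≫ f) := by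
  have hr : ∀ h : IsClosed (Set.range i),
      Set.range (Scheme.IdealSheafData.vanishingIdeal ⟨Set.range i, h⟩).subschemeι = Set.range i := by
    intro h
    rw [Scheme.IdealSheafData.range_subschemeι]
    exact Scheme.IdealSheafData.coe_support_vanishingIdeal _
  constructor
  · rintro ⟨h, hp⟩
    exact isProper_comp_of_range_subset f i
      (Scheme.IdealSheafData.vanishingIdeal ⟨Set.range i, h⟩).subschemeι (hr h).ge
  · intro hp
    exact ⟨i.isClosedEmbedding.isClosed_range, isProper_comp_of_range_subset f
      (Scheme.IdealSheafData.vanishingIdeal ⟨Set.range i, i.isClosedEmbedding.isClosed_range⟩).subschemeι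
      i (hr _).le⟩

theorem IsProperOver.exists_scheme {f : X ⟶ S} {Z : Set X} (h : ClSub.IsProperOver f Z) :
    ∃ (T : Scheme.{u}) (i : T ⟶ X), IsClosedImmersion i ∧ Set.range i = Z ∧ IsProper (i ≫ f) := by
  obtain ⟨hc, hp⟩ := h
  refine ⟨_, (Scheme.IdealSheafData.vanishingIdeal ⟨Z, hc⟩).subschemeι, inferInstance, ?_, hp⟩
  rw [Scheme.IdealSheafData.range_subschemeι]
  exact Scheme.IdealSheafData.coe_support_vanishingIdeal _

/-- The image of a proper scheme under a universally closed morphism is proper. -/
theorem isProperOver_range {Y T : Scheme.{u}} (q : Y ⟶ S) [LocallyOfFiniteType q] (h : T ⟶ Y)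
    [UniversallyClosed h] [IsProper (h ≫ q)] : ClSub.IsProperOver q (Set.range h) := by
  have hc : IsClosed (Set.range h) := h.isClosedMap.isClosed_range
  refine ⟨hc, ?_⟩
  let ι := (Scheme.IdealSheafData.vanishingIdeal ⟨Set.range h, hc⟩).subschemeι
  have hι : Set.range ι = Set.range h := by
    rw [Scheme.IdealSheafData.range_subschemeι]
    exact Scheme.IdealSheafData.coe_support_vanishingIdeal _
  let π := pullback.snd h ι
  haveI : UniversallyClosed π := inferInstance
  haveI : Surjective π := by
    refine ⟨fun a => ?_⟩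
    have ha : a ∈ Set.range π := by
      rw [Scheme.Pullback.range_snd, Set.mem_preimage]
      exact hι.le ⟨a, rfl⟩
    exact ha
  haveI : IsProper (π ≫ ι ≫ q) := by
    rw [← Category.assoc, ← pullback.condition, Category.assoc]
    infer_instance
  exact isProper_of_comp_surjective π (ι ≫ q)

/-- A morphism which is universally closed on the members of a finite closed cover is universally closed. -/
theorem universallyClosed_of_cover (g : X ⟶ S) {ι : Type*} [Finite ι] {T : ι → Scheme.{u}}
    (j : ∀ i, T i ⟶ X) (hcov : ∀ x : X, ∃ i, x ∈ Set.range (j i)) (H : ∀ i, UniversallyClosed (j i ≫ g)) :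
    UniversallyClosed g := by
  rw [universallyClosed_iff]
  intro X' S' s' s g' hpb
  suffices hmain : IsClosedMap (pullback.snd g s) by
    have : g' = hpb.flip.isoPullback.hom ≫ pullback.snd g s := by simp
    rw [topologically, this]
    exact hmain.comp (Scheme.Hom.homeomorph hpb.flip.isoPullback.hom).isClosedMap
  intro C hC
  let m : ∀ i, pullback (j i ≫ g) s ⟶ pullback g s := fun i =>
    pullback.map _ _ _ _ (j i) (𝟙 _) (𝟙 _) (by simp) (by simp)
  have hC' : pullback.snd g s '' C = ⋃ i, pullback.snd (j i ≫ g) s '' (m i ⁻¹' C) := by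
    ext a
    simp only [Set.mem_image, Set.mem_iUnion, Set.mem_preimage]
    constructor
    · rintro ⟨z, hz, rfl⟩
      obtain ⟨i, hi⟩ := hcov (pullback.fst g s z)
      obtain ⟨w, rfl⟩ : z ∈ Set.range (m i) := by
        rw [Scheme.Pullback.range_map]
        exact ⟨hi, by simp⟩
      refine ⟨i, w, hz, ?_⟩
      rw [← Scheme.Hom.comp_apply (m i), show m i ≫ pullback.snd g s = pullback.snd (j i ≫ g) s from (pullback.lift_snd _ _ _).trans (Category.comp_id _)]
    · rintro ⟨i, w, hw, rfl⟩
      refine ⟨m i w, hw, ?_⟩
      rw [← Scheme.Hom.comp_apply (m i), show m i ≫ pullback.snd g s = pullback.snd (j i ≫ g) s from (pullback.lift_snd _ _ _).trans (Category.comp_id _)]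
  rw [hC']
  exact isClosed_iUnion_of_finite fun i =>
    (pullback.snd (j i ≫ g) s).isClosedMap _ (hC.preimage (m i).continuous)

/-- Properness can be checked on the members of a finite closed cover. -/
theorem isProper_of_cover (g : X ⟶ S) [LocallyOfFiniteType g] {ι : Type*} [Finite ι] {T : ι → Scheme.{u}}
    (j : ∀ i, T i ⟶ X) [∀ i, IsClosedImmersion (j i)] (hcov : ∀ x : X, ∃ i, x ∈ Set.range (j i))
    (H : ∀ i, IsProper (j i ≫ g)) : IsProper g := by
  haveI : IsSeparated g := by
    refine ⟨.of_isPreimmersion _ ?_⟩
    have hr : Set.range (pullback.diagonal g) = ⋃ i, Set.range (j i ≫ pullback.diagonal g) := by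
      ext z
      simp only [Set.mem_range, Set.mem_iUnion, Scheme.Hom.comp_apply]
      constructor
      · rintro ⟨x, rfl⟩
        obtain ⟨i, a, rfl⟩ := hcov x
        exact ⟨i, a, rfl⟩
      · rintro ⟨i, a, rfl⟩
        exact ⟨_, rfl⟩
    rw [hr]
    refine isClosed_iUnion_of_finite fun i => ?_
    haveI := H i
    have : j i ≫ pullback.diagonal g = pullback.diagonal (j i ≫ g) ≫
        pullback.map (j i ≫ g) (j i ≫ g) g g (j i) (j i) (𝟙 S) (Category.comp_id _) (Category.comp_id _) :=
      SepDescent.comp_diagonal (j i) g
    rw [this]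
    haveI := SepDescent.universallyClosed_map (j i) g
    exact (pullback.diagonal (j i ≫ g) ≫ pullback.map (j i ≫ g) (j i ≫ g) g g (j i) (j i) (𝟙 S)
      (Category.comp_id _) (Category.comp_id _)).isClosedMap.isClosed_range
  haveI := universallyClosed_of_cover g j hcov fun i => (H i).toUniversallyClosed
  exact { }

end Groth.Agent.ProperCover
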